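import Mathlib
import Groth.Agent.RGLib.Kummer

/-!
# Kummer algebras are free
-/

set_option autoImplicit false
set_option linter.style.haveILetI false
set_option backward.isDefEq.respectTransparency false

universe u v

noncomputable section

namespace Groth.Agent.RelKummer

open RGLib

theorem exists_rootAlg {A : Type u} [CommRing A] : ∀ (r : ℕ) (f : Fin r → A) (n : Fin r → ℕ), (∀ i, 1 ≤ n i) →
    ∃ (B : Type u) (_ : CommRing B) (_ : Algebra A B) (t : Fin r → B),
      (∀ i, t i ^ n i = algebraMap A B (f i)) ∧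
      LinearIndependent A (fun b : ∀ i, Fin (n i) => ∏ i, t i ^ (b i : ℕ)) := by
  intro r
  induction r with
  | zero =>
    intro f n _
    refine ⟨A, inferInstance, Algebra.id A, fun i => i.elim0, fun i => i.elim0, ?_⟩
    rw [Fintype.linearIndependent_iff]
    intro g hg b
    rw [Fintype.sum_unique] at hg
    simpa [Subsingleton.elim b default] using hg
  | succ r ih =>
    intro f n hn
    obtain ⟨B, _, _, t, ht, hli⟩ := ih (fun i => f i.succ) (fun i => n i.succ) fun i => hn i.succ
    let p : Polynomial B := Polynomial.X ^ n 0 - Polynomial.C (algebraMap A B (f 0))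
    have hp : p.Monic := Polynomial.monic_X_pow_sub_C _ (by have := hn 0; omega)
    have hroot : ∀ c : Fin (n 0) → B, ∑ k, AdjoinRoot.of p (c k) * AdjoinRoot.root p ^ (k : ℕ) = 0 → ∀ k, c k = 0 := by
      intro c hc k
      rcases subsingleton_or_nontrivial B with hB | hB
      · exact Subsingleton.elim _ _
      let q : Polynomial B := ∑ k, Polynomial.C (c k) * Polynomial.X ^ (k : ℕ)
      have hq : AdjoinRoot.mk p q = 0 := by simpa [q] using hc
      rw [AdjoinRoot.mk_eq_zero, ← Polynomial.modByMonic_eq_zero_iff_dvd hp,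
        (Polynomial.modByMonic_eq_self_iff hp).2 ?_] at hq
      · have := congrArg (fun s : Polynomial B => s.coeff (k : ℕ)) hq
        simpa [q, Polynomial.finset_sum_coeff, Polynomial.coeff_C_mul_X_pow, ← Fin.ext_iff] using this
      · rw [Polynomial.degree_X_pow_sub_C (by have := hn 0; omega : 0 < n 0)]
        refine lt_of_le_of_lt (Polynomial.degree_sum_le _ _)
          ((Finset.sup_lt_iff (WithBot.bot_lt_coe _)).2 fun j _ => ?_)
        exact lt_of_le_of_lt (Polynomial.degree_C_mul_X_pow_le _ _) (WithBot.coe_lt_coe.2 j.2)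
    refine ⟨AdjoinRoot p, inferInstance, inferInstance,
      Fin.cons (AdjoinRoot.root p) (fun i => AdjoinRoot.of p (t i)), fun i => ?_, ?_⟩
    · refine Fin.cases ?_ (fun j => ?_) i
      · rw [Fin.cons_zero]
        have := AdjoinRoot.eval₂_root p
        rw [Polynomial.eval₂_sub, Polynomial.eval₂_X_pow, Polynomial.eval₂_C, sub_eq_zero] at this
        rw [AdjoinRoot.algebraMap_eq']
        exact this
      · rw [Fin.cons_succ, ← map_pow, ht j, AdjoinRoot.algebraMap_eq']
        rfl
    · rw [Fintype.linearIndependent_iff]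
      intro g hg b
      let c : Fin (n 0) → B := fun k => ∑ b' : ∀ i : Fin r, Fin (n i.succ), g (Fin.cons k b') • ∏ i, t i ^ (b' i : ℕ)
      have h1 : ∑ k, AdjoinRoot.of p (c k) * AdjoinRoot.root p ^ (k : ℕ) = 0 := by
        rw [← hg, ← (Fin.consEquiv fun i : Fin (r + 1) => Fin (n i)).sum_comp, Fintype.sum_prod_type]
        refine Finset.sum_congr rfl fun k _ => ?_
        simp only [c, map_sum, Finset.sum_mul]
        refine Finset.sum_congr rfl fun b' _ => ?_
        show _ = g (Fin.cons k b') • _
        rw [Fin.prod_univ_succ]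
        simp only [Algebra.smul_def, Fin.consEquiv_apply, Fin.cons_zero, Fin.cons_succ, map_mul, map_prod, map_pow,
          AdjoinRoot.algebraMap_eq', RingHom.comp_apply]
        ring
      have h2 := Fintype.linearIndependent_iff.1 hli _ (hroot c h1 (b 0)) (Fin.tail b)
      rwa [Fin.cons_self_tail] at h2

theorem free_fin {A : Type u} [CommRing A] {r : ℕ} (f : Fin r → A) (n : Fin r → ℕ) (hn : ∀ i, 1 ≤ n i) :
    Module.Free A (Kummer.K A f n) := by
  classical
  obtain ⟨B, _, _, t, ht, hli⟩ := exists_rootAlg r f n hn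
  obtain ⟨g, hg⟩ := (Kummer.existsUnique_hom f n t ht).exists
  let v : (∀ i, Fin (n i)) → Kummer.K A f n := fun b => ∏ i, Kummer.T f n i ^ (b i : ℕ)
  have hv : LinearIndependent A v := by
    refine LinearIndependent.of_comp g.toLinearMap ?_
    have : (g.toLinearMap ∘ v) = fun b : ∀ i, Fin (n i) => ∏ i, t i ^ (b i : ℕ) := by
      funext b
      show g (∏ i, Kummer.T f n i ^ (b i : ℕ)) = _
      simp [hg]
    rwa [this]
  let mon : (Fin r → ℕ) → Kummer.K A f n := fun a => ∏ i, Kummer.T f n i ^ a i
  have hred : ∀ a, mon a = algebraMap A (Kummer.K A f n) (∏ i, f i ^ (a i / n i)) * mon (fun i => a i % n i) := by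
    intro a
    simp only [mon, map_prod, map_pow, ← Finset.prod_mul_distrib]
    refine Finset.prod_congr rfl fun i _ => ?_
    conv_lhs => rw [← Nat.div_add_mod (a i) (n i), pow_add, pow_mul, Kummer.T_pow f n i]
  have hspan : ⊤ ≤ Submodule.span A (Set.range v) := by
    rw [← Algebra.top_toSubmodule, ← Kummer.adjoin_T f n, Algebra.adjoin_eq_span]
    refine Submodule.span_le.2 fun x hx => ?_
    obtain ⟨a, rfl⟩ : ∃ a, mon a = x := by
      induction hx using Submonoid.closure_induction with
      | mem y hy =>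
        obtain ⟨i, rfl⟩ := hy
        refine ⟨Pi.single i 1, ?_⟩
        show ∏ j, Kummer.T f n j ^ _ = _
        rw [Finset.prod_eq_single i]
        · rw [Pi.single_eq_same, pow_one]
        · intro j _ hj; rw [Pi.single_eq_of_ne hj, pow_zero]
        · simp
      | one => exact ⟨0, by simp [mon]⟩
      | mul y z _ _ hy hz =>
        obtain ⟨a, rfl⟩ := hy
        obtain ⟨b, rfl⟩ := hz
        exact ⟨a + b, by simp [mon, pow_add, Finset.prod_mul_distrib]⟩
    rw [hred, ← Algebra.smul_def]
    exact Submodule.smul_mem _ _ (Submodule.subset_span ⟨fun i => ⟨a i % n i, Nat.mod_lt _ (hn i)⟩, rfl⟩)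
  exact Module.Free.of_basis (Module.Basis.mk hv hspan)

/-- Kummer algebras are free. -/
theorem free {A : Type u} [CommRing A] {ι : Type} [Finite ι] (a : ι → A) (n : ι → ℕ) (hn : ∀ i, 1 ≤ n i) :
    Module.Free A (Kummer.K A a n) := by
  haveI := Fintype.ofFinite ι
  let e := Fintype.equivFin ι
  let a' : Fin (Fintype.card ι) → A := fun j => a (e.symm j)
  let n' : Fin (Fintype.card ι) → ℕ := fun j => n (e.symm j)
  haveI := free_fin a' n' fun j => hn _
  obtain ⟨g, hg⟩ := (Kummer.existsUnique_hom a n (fun i => Kummer.T a' n' (e i)) fun i => by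
    have h := Kummer.T_pow a' n' (e i)
    simpa [a', n', e.symm_apply_apply] using h).exists
  obtain ⟨g', hg'⟩ := (Kummer.existsUnique_hom a' n' (fun j => Kummer.T a n (e.symm j)) fun j =>
    Kummer.T_pow a n _).exists
  have h1 : g.comp g' = AlgHom.id A _ := Kummer.hom_ext a' n' fun j => by
    show g (g' _) = _
    rw [hg', hg, e.apply_symm_apply]
    rfl
  have h2 : g'.comp g = AlgHom.id A _ := Kummer.hom_ext a n fun i => by
    show g' (g _) = _
    rw [hg, hg', e.symm_apply_apply]
    rfl
  exact Module.Free.of_equiv (AlgEquiv.ofAlgHom g' g h2 h1).toLinearEquiv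

end Groth.Agent.RelKummer
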