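import Mathlib
import Groth.Agent.RelKummer.Free
import Groth.Agent.Hensel.EtaleReduced

/-!
# Connectedness of Kummer covers along coordinate divisors
-/

set_option autoImplicit false
set_option linter.style.haveILetI false
set_option backward.isDefEq.respectTransparency false
set_option maxHeartbeats 1000000

universe u

open IsLocalRing TensorProduct

noncomputable section

namespace Groth.Agent.RelKummer

open RGLib

/-- An algebra like a localization of an étale algebra: flat and preserving reducedness of closed subschemes. -/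
structure IsGood (P A : Type u) [CommRing P] [CommRing A] [Algebra P A] : Prop where
  flat : Module.Flat P A
  reduced : ∀ J : Ideal P, _root_.IsReduced (P ⧸ J) → _root_.IsReduced (A ⧸ J.map (algebraMap P A))

theorem IsGood.regular {P A : Type u} [CommRing P] [CommRing A] [Algebra P A] (h : IsGood P A) (J : Ideal P) (x : P)
    (hx : ∀ p, x * p ∈ J → p ∈ J) :
    ∀ z : A, algebraMap P A x * z ∈ J.map (algebraMap P A) → z ∈ J.map (algebraMap P A) := by
  haveI := h.flat
  intro z hz
  let m : (P ⧸ J) →ₗ[P] P ⧸ J := LinearMap.lsmul P (P ⧸ J) x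
  have hm : Function.Injective m := (injective_iff_map_eq_zero m).2 fun q hq => by
    obtain ⟨p, rfl⟩ := Ideal.Quotient.mk_surjective q
    exact Ideal.Quotient.eq_zero_iff_mem.2 (hx p (Ideal.Quotient.eq_zero_iff_mem.1 hq))
  have hinj := Module.Flat.lTensor_preserves_injective_linearMap (M := A) m hm
  let e := Algebra.TensorProduct.quotIdealMapEquivTensorQuot A J
  have key : ∀ w : A ⊗[P] (P ⧸ J), m.lTensor A w = algebraMap P A x • w := by
    intro w
    induction w using TensorProduct.induction_on with
    | zero => simp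
    | tmul a q => simp [m, TensorProduct.smul_tmul']
    | add u v hu hv => rw [map_add, hu, hv, smul_add]
  refine Ideal.Quotient.eq_zero_iff_mem.1 (e.injective ((hinj ?_).trans (map_zero e).symm))
  rw [map_zero, key, ← map_smul, ← e.map_zero]
  refine congrArg e ?_
  rw [Algebra.smul_def, ← map_zero (Ideal.Quotient.mk (J.map (algebraMap P A)))]
  exact Ideal.Quotient.eq.2 (by simpa using hz)

section coord

variable {C σ : Type u} [CommRing C] [DecidableEq σ]

/-- Reduce the coefficients and kill some variables. -/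
def killHom (s : Finset σ) : MvPolynomial σ C →+* MvPolynomial σ (C ⧸ nilradical C) :=
  MvPolynomial.eval₂Hom (MvPolynomial.C.comp (Ideal.Quotient.mk (nilradical C)))
    fun j => if j ∈ s then 0 else MvPolynomial.X j

/-- The corresponding ideal. -/
def killIdeal (s : Finset σ) : Ideal (MvPolynomial σ C) :=
  (nilradical C).map MvPolynomial.C ⊔ Ideal.span (MvPolynomial.X '' (s : Set σ))

theorem ker_killHom (s : Finset σ) : RingHom.ker (killHom (C := C) s) = killIdeal s := by
  refine le_antisymm (fun p hp => ?_) (sup_le (Ideal.map_le_iff_le_comap.2 fun c hc => ?_) (Ideal.span_le.2 ?_))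
  · let ψ : MvPolynomial σ C →ₐ[C] MvPolynomial σ C := MvPolynomial.aeval fun j => if j ∈ s then 0 else MvPolynomial.X j
    have h1 : ∀ q, q - ψ q ∈ killIdeal (C := C) s := by
      intro q
      induction q using MvPolynomial.induction_on with
      | C c => simp [ψ]
      | add u v hu hv =>
        rw [map_add, show u + v - (ψ u + ψ v) = (u - ψ u) + (v - ψ v) by ring]
        exact add_mem hu hv
      | mul_X q j hq =>
        rw [map_mul, show q * MvPolynomial.X j - ψ q * ψ (MvPolynomial.X j) =
          (q - ψ q) * MvPolynomial.X j + ψ q * (MvPolynomial.X j - ψ (MvPolynomial.X j)) by ring]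
        refine add_mem (Ideal.mul_mem_right _ _ hq) (Ideal.mul_mem_left _ _ ?_)
        rw [MvPolynomial.aeval_X]
        split_ifs with h
        · rw [sub_zero]; exact Ideal.mem_sup_right (Ideal.subset_span ⟨j, h, rfl⟩)
        · rw [sub_self]; exact zero_mem _
    have h2 : killHom s p = MvPolynomial.map (Ideal.Quotient.mk (nilradical C)) (ψ p) := by
      refine RingHom.congr_fun (f := killHom s)
        (g := (MvPolynomial.map (Ideal.Quotient.mk (nilradical C))).comp ψ.toRingHom)
        (MvPolynomial.ringHom_ext (fun c => ?_) fun j => ?_) p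
      · simp [killHom, ψ]
      · simp only [killHom, ψ, RingHom.comp_apply, AlgHom.toRingHom_eq_coe, RingHom.coe_coe, MvPolynomial.eval₂Hom_X',
          MvPolynomial.aeval_X]
        split_ifs <;> simp
    have h3 : ψ p ∈ (nilradical C).map MvPolynomial.C := by
      rw [RingHom.mem_ker, h2] at hp
      rw [MvPolynomial.mem_map_C_iff]
      intro m
      have := congrArg (MvPolynomial.coeff m) hp
      rw [MvPolynomial.coeff_map, MvPolynomial.coeff_zero, Ideal.Quotient.eq_zero_iff_mem] at this
      exact this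
    have := add_mem (h1 p) (Ideal.mem_sup_left h3 : ψ p ∈ killIdeal (C := C) s)
    rwa [sub_add_cancel] at this
  · rw [Ideal.mem_comap, RingHom.mem_ker]
    simp [killHom, Ideal.Quotient.eq_zero_iff_mem.2 hc]
  · rintro _ ⟨j, hj, rfl⟩
    rw [SetLike.mem_coe, RingHom.mem_ker]
    simp [killHom, Finset.mem_coe.1 hj]

theorem isReduced_killIdeal (s : Finset σ) : _root_.IsReduced (MvPolynomial σ C ⧸ killIdeal (C := C) s) := by
  haveI : _root_.IsReduced (C ⧸ nilradical C) := (Ideal.isRadical_iff_quotient_reduced _).1 (Ideal.radical_isRadical _)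
  rw [← ker_killHom]
  exact isReduced_of_injective _ (RingHom.kerLift_injective (killHom (C := C) s))

theorem regular_killIdeal (s : Finset σ) (t : σ) (ht : t ∉ s) (p : MvPolynomial σ C)
    (h : MvPolynomial.X t * p ∈ killIdeal (C := C) s) : p ∈ killIdeal (C := C) s := by
  rw [← ker_killHom, RingHom.mem_ker, map_mul] at h
  rw [← ker_killHom, RingHom.mem_ker]
  rw [show killHom s (MvPolynomial.X t) = MvPolynomial.X t by simp [killHom, ht], mul_comm] at h
  ext m
  have := congrArg (MvPolynomial.coeff (m + Finsupp.single t 1)) h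
  simpa [MvPolynomial.coeff_mul_X] using this

end coord

/-- Non zero divisors of the base stay non zero divisors on a free algebra. -/
theorem regular_of_free {B K : Type u} [CommRing B] [CommRing K] [Algebra B K] [Module.Free B K] {c : B}
    (hc : c ∈ nonZeroDivisors B) {z : K} (hz : algebraMap B K c * z = 0) : z = 0 := by
  let b := Module.Free.chooseBasis B K
  refine b.repr.injective ((Finsupp.ext fun i => ?_).trans (map_zero b.repr).symm)
  have h1 := congrArg (fun w => b.repr w i) hz
  simp only [← Algebra.smul_def, map_smul, Finsupp.smul_apply, map_zero, Finsupp.coe_zero, Pi.zero_apply,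
    smul_eq_mul] at h1 ⊢
  rw [mul_comm] at h1
  exact (mem_nonZeroDivisors_iff_right.1 hc) _ h1

/-- The Kummer algebra is étale away from the parameters. -/
theorem etale_away {B : Type u} [CommRing B] {ι : Type} [Finite ι] (a : ι → B) (n : ι → ℕ) (hn : ∀ i, 1 ≤ n i)
    (hu : ∀ i, IsUnit ((n i : ℕ) : B)) (F : B) (hF : ∀ i, a i ∣ F)
    (BF : Type u) [CommRing BF] [Algebra B BF] [IsLocalization.Away F BF]
    (KF : Type u) [CommRing KF] [Algebra (Kummer.K B a n) KF] [Algebra B KF] [IsScalarTower B (Kummer.K B a n) KF]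
    [IsLocalization.Away (algebraMap B (Kummer.K B a n) F) KF] [Algebra BF KF] [IsScalarTower B BF KF] :
    Algebra.Etale BF KF := by
  haveI : Algebra.FormallyEtale BF KF := Kummer.formallyEtale_away a n hn F hF hu BF KF
  haveI : Algebra.FinitePresentation B (Kummer.K B a n) := by
    refine Algebra.FinitePresentation.quotient ?_
    exact Submodule.fg_span (Set.finite_range _)
  haveI : Algebra.FinitePresentation (Kummer.K B a n) KF :=
    IsLocalization.Away.finitePresentation (algebraMap B (Kummer.K B a n) F)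
  haveI : Algebra.FinitePresentation B KF := Algebra.FinitePresentation.trans B (Kummer.K B a n) KF
  haveI : Algebra.FiniteType B BF :=
    haveI := IsLocalization.Away.finitePresentation F (S := BF)
    inferInstance
  haveI : Algebra.FinitePresentation BF KF :=
    Algebra.FinitePresentation.of_restrict_scalars_finitePresentation B BF KF
  exact { formallyEtale := inferInstance, finitePresentation := inferInstance }

/-- A localization with its tower structures. -/
theorem exists_away {A R : Type u} [CommRing A] [CommRing R] [Algebra A R] (F : A) (AF : Type u) [CommRing AF]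
    [Algebra A AF] [IsLocalization.Away F AF] :
    ∃ (RF : Type u) (_ : CommRing RF) (_ : Algebra R RF) (_ : Algebra A RF) (_ : Algebra AF RF),
      IsScalarTower A R RF ∧ IsLocalization.Away (algebraMap A R F) RF ∧ IsScalarTower A AF RF := by
  let RF := Localization.Away (algebraMap A R F)
  letI aA : Algebra A RF := ((algebraMap R RF).comp (algebraMap A R)).toAlgebra
  let σ : AF →+* RF := IsLocalization.Away.lift F (g := (algebraMap R RF).comp (algebraMap A R))
    (IsLocalization.Away.algebraMap_isUnit (algebraMap A R F))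
  letI aF : Algebra AF RF := σ.toAlgebra
  exact ⟨RF, inferInstance, inferInstance, aA, aF, IsScalarTower.of_algebraMap_eq fun _ => rfl, inferInstance,
    IsScalarTower.of_algebraMap_eq fun a =>
      (IsLocalization.Away.lift_eq F (g := (algebraMap R RF).comp (algebraMap A R)) _ a).symm⟩

/-- A Kummer algebra with non zero divisor parameters over a reduced ring is reduced. -/
theorem isReduced_kummer {B : Type u} [CommRing B] [_root_.IsReduced B] {ι : Type} [Finite ι] (a : ι → B) (n : ι → ℕ)
    (hn : ∀ i, 1 ≤ n i) (hu : ∀ i, IsUnit ((n i : ℕ) : B)) (ha : ∀ i, a i ∈ nonZeroDivisors B) :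
    _root_.IsReduced (Kummer.K B a n) := by
  classical
  haveI := Fintype.ofFinite ι
  haveI := free a n hn
  let F := ∏ i, a i
  have hF : F ∈ nonZeroDivisors B := prod_mem fun i _ => ha i
  let BF := Localization.Away F
  haveI : _root_.IsReduced BF := isReduced_localizationPreserves (Submonoid.powers F) BF inferInstance
  obtain ⟨KF, _, _, _, _, h1, h2, h3⟩ := exists_away (R := Kummer.K B a n) F BF
  haveI := h1
  haveI := h2
  haveI := h3
  haveI : Algebra.Etale BF KF :=
    etale_away a n hn hu F (fun i => Finset.dvd_prod_of_mem a (Finset.mem_univ i)) BF KF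
  haveI : _root_.IsReduced KF := Hensel.isReduced_of_etale BF KF
  refine isReduced_of_injective (algebraMap (Kummer.K B a n) KF) ((injective_iff_map_eq_zero _).2 fun z hz => ?_)
  obtain ⟨⟨_, m, rfl⟩, hm⟩ :=
    (IsLocalization.map_eq_zero_iff (Submonoid.powers (algebraMap B (Kummer.K B a n) F)) KF z).1 hz
  exact regular_of_free (pow_mem hF m) (by rw [map_pow]; exact hm)

section main

variable {C σ A : Type u} [CommRing C] [DecidableEq σ] [CommRing A] [Algebra (MvPolynomial σ C) A]

/-- The ideal of `A` cut out by nilpotents and some coordinates. -/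
abbrev killA (s : Finset σ) : Ideal A := (killIdeal (C := C) s).map (algebraMap (MvPolynomial σ C) A)

theorem regular_killA (hG : IsGood (MvPolynomial σ C) A) (s : Finset σ) (t : σ) (ht : t ∉ s) :
    Ideal.Quotient.mk (killA (C := C) (A := A) s) (algebraMap (MvPolynomial σ C) A (MvPolynomial.X t)) ∈
      nonZeroDivisors (A ⧸ killA (C := C) (A := A) s) := by
  rw [mem_nonZeroDivisors_iff_right]
  intro q hq
  obtain ⟨z, rfl⟩ := Ideal.Quotient.mk_surjective q
  rw [← map_mul, Ideal.Quotient.eq_zero_iff_mem, mul_comm] at hq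
  exact Ideal.Quotient.eq_zero_iff_mem.2 (hG.regular _ _ (regular_killIdeal s t ht) z hq)

variable [IsLocalRing A] {ι : Type} [Finite ι] (e : ι → σ) (he : Function.Injective e) (a : ι → A)
  (ha : ∀ i, algebraMap (MvPolynomial σ C) A (MvPolynomial.X (e i)) = a i) (ham : ∀ i, a i ∈ maximalIdeal A)
  (n : ι → ℕ) (hn : ∀ i, 1 ≤ n i) (hu : ∀ i, IsUnit ((n i : ℕ) : A)) (hG : IsGood (MvPolynomial σ C) A)

/-- The reduction of the parameters. -/
abbrev abar : ι → A ⧸ killA (C := C) (A := A) (∅ : Finset σ) := fun i => Ideal.Quotient.mk _ (a i)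

include he ha hn hu hG in
/-- Roots generate radical ideals of the reduced Kummer algebra. -/
theorem root_radical (i : ι) (z : Kummer.K _ (abar (C := C) (σ := σ) a) n)
    (hz : Kummer.T (abar (C := C) (σ := σ) a) n i ∣ z * z) : Kummer.T (abar (C := C) (σ := σ) a) n i ∣ z := by
  classical
  let B := A ⧸ killA (C := C) (A := A) (∅ : Finset σ)
  let Jb := killA (C := C) (A := A) ({e i} : Finset σ)
  let Bi := A ⧸ Jb
  haveI : _root_.IsReduced Bi := hG.reduced _ (isReduced_killIdeal _)
  let ι' := {j : ι // j ≠ i}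
  let a' : ι' → Bi := fun j => Ideal.Quotient.mk Jb (a j.1)
  let n' : ι' → ℕ := fun j => n j.1
  have hanz : ∀ j, a' j ∈ nonZeroDivisors Bi := fun j => by
    show Ideal.Quotient.mk Jb (a j.1) ∈ _
    rw [← ha]
    exact regular_killA hG _ _ (fun h => j.2 (he (Finset.mem_singleton.1 h)))
  haveI : _root_.IsReduced (Kummer.K Bi a' n') := isReduced_kummer a' n' (fun j => hn _)
    (fun j => by rw [← map_natCast (Ideal.Quotient.mk Jb)]; exact (hu j.1).map _) hanz
  have hle : killA (C := C) (A := A) (∅ : Finset σ) ≤ Jb :=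
    Ideal.map_mono (sup_le_sup_left (Ideal.span_mono (Set.image_mono (by simp))) _)
  let q : B →+* Bi := Ideal.Quotient.factor hle
  letI : Algebra B (Kummer.K Bi a' n') := ((algebraMap Bi (Kummer.K Bi a' n')).comp q).toAlgebra
  have hai : Ideal.Quotient.mk Jb (a i) = 0 := Ideal.Quotient.eq_zero_iff_mem.2 (by
    rw [← ha]
    exact Ideal.mem_map_of_mem _ (Ideal.mem_sup_right (Ideal.subset_span ⟨e i, by simp, rfl⟩)))
  let t : ι → Kummer.K Bi a' n' := fun j => if h : j = i then 0 else Kummer.T a' n' ⟨j, h⟩
  obtain ⟨χ, hχ⟩ := (Kummer.existsUnique_hom (abar (C := C) (σ := σ) a) n t fun j => by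
    show t j ^ n j = algebraMap Bi _ (Ideal.Quotient.mk Jb (a j))
    by_cases h : j = i
    · subst h
      rw [hai, map_zero]
      simp only [t, dif_pos rfl]
      exact zero_pow (by have := hn j; omega)
    · simp only [t, dif_neg h]
      exact Kummer.T_pow a' n' ⟨j, h⟩).exists
  -- a section modulo the root
  let Ti := Kummer.T (abar (C := C) (σ := σ) a) n i
  let Q := Kummer.K B (abar (C := C) (σ := σ) a) n ⧸ Ideal.span {Ti}
  let ρ : A →+* Q :=
    ((Ideal.Quotient.mk (Ideal.span {Ti})).comp (algebraMap B _)).comp (Ideal.Quotient.mk _)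
  have hρ : ∀ x ∈ Jb, ρ x = 0 := by
    intro x hx
    refine (Ideal.map_le_iff_le_comap (K := RingHom.ker ρ)).2 ?_ hx
    refine sup_le (fun p hp => ?_) (Ideal.span_le.2 ?_)
    · rw [Ideal.mem_comap, RingHom.mem_ker]
      show Ideal.Quotient.mk _ (algebraMap B _ (Ideal.Quotient.mk _ (algebraMap _ A p))) = 0
      rw [Ideal.Quotient.eq_zero_iff_mem.2 (Ideal.mem_map_of_mem _
        (show p ∈ killIdeal (C := C) (∅ : Finset σ) from Ideal.mem_sup_left hp)), map_zero, map_zero]
    · rintro _ ⟨j, hj, rfl⟩
      rw [Finset.coe_singleton, Set.mem_singleton_iff] at hj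
      subst hj
      rw [SetLike.mem_coe, Ideal.mem_comap, RingHom.mem_ker]
      show Ideal.Quotient.mk _ (algebraMap B _ (Ideal.Quotient.mk _ (algebraMap _ A (MvPolynomial.X (e i))))) = 0
      rw [ha, ← Kummer.T_pow (abar (C := C) (σ := σ) a) n i, map_pow,
        Ideal.Quotient.eq_zero_iff_mem.2 (Ideal.mem_span_singleton_self _)]
      exact zero_pow (M₀ := Q) (Nat.one_le_iff_ne_zero.1 (hn i))
  letI : Algebra Bi Q := RingHom.toAlgebra (R := A ⧸ Jb) (S := Q) (Ideal.Quotient.lift Jb ρ hρ)
  obtain ⟨ψ, hψ⟩ := (Kummer.existsUnique_hom a' n'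
    (fun j => Ideal.Quotient.mk (Ideal.span {Ti}) (Kummer.T (abar (C := C) (σ := σ) a) n j.1)) fun j => by
      rw [← map_pow, Kummer.T_pow]
      rfl).exists
  have hψχ : ∀ w, ψ (χ w) = Ideal.Quotient.mk _ w := by
    refine RingHom.congr_fun (f := ψ.toRingHom.comp χ.toRingHom) (g := Ideal.Quotient.mk _)
      (Ideal.Quotient.ringHom_ext (MvPolynomial.ringHom_ext (fun c => ?_) fun j => ?_))
    · obtain ⟨c, rfl⟩ := Ideal.Quotient.mk_surjective c
      show ψ (χ (algebraMap B _ (Ideal.Quotient.mk _ c))) = _
      rw [χ.commutes]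
      show ψ (algebraMap Bi _ (Ideal.Quotient.mk Jb c)) = _
      rw [ψ.commutes]
      rfl
    · show ψ (χ (Kummer.T (abar (C := C) (σ := σ) a) n j)) = Ideal.Quotient.mk _ (Kummer.T _ n j)
      rw [hχ]
      by_cases h : j = i
      · subst h
        simp only [t, dif_pos rfl, map_zero]
        exact (Ideal.Quotient.eq_zero_iff_mem.2 (Ideal.mem_span_singleton_self _)).symm
      · simp only [t, dif_neg h]
        rw [hψ]
  obtain ⟨w, hw⟩ := hz
  have h1 : χ z = 0 := by
    refine IsNilpotent.eq_zero ⟨2, ?_⟩
    have h0 : χ Ti = 0 := (hχ i).trans (dif_pos rfl)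
    rw [pow_two, ← map_mul, hw, map_mul, h0, zero_mul]
  have h2 := hψχ z
  rw [h1, map_zero, eq_comm, Ideal.Quotient.eq_zero_iff_mem, Ideal.mem_span_singleton] at h2
  exact h2

include he ha ham hn hu hG in
/-- The Kummer cover is connected. -/
theorem idempotent_trivial [Fintype ι] (D : Type u) [CommRing D] [Algebra (Kummer.K A a n) D]
    [IsLocalization.Away (algebraMap A (Kummer.K A a n) (∏ i, a i)) D] :
    Nontrivial D ∧ ∀ d : D, IsIdempotentElem d → d = 0 ∨ d = 1 := by
  classical
  let J := killA (C := C) (A := A) (∅ : Finset σ)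
  let B := A ⧸ J
  let ab := abar (C := C) (σ := σ) a
  let K := Kummer.K A a n
  let Kb := Kummer.K B ab n
  have hJnil : J ≤ nilradical A := by
    refine Ideal.map_le_iff_le_comap.2 (sup_le (Ideal.map_le_iff_le_comap.2 fun c hc => ?_) (by simp))
    exact mem_nilradical.2 (((mem_nilradical.1 hc).map MvPolynomial.C).map _)
  have hJtop : J ≠ ⊤ := fun h => by
    have := hJnil (h ▸ Submodule.mem_top : (1 : A) ∈ J)
    obtain ⟨m, hm⟩ := mem_nilradical.1 this
    rw [one_pow] at hm
    exact one_ne_zero hm
  haveI : Nontrivial B := Ideal.Quotient.nontrivial_iff.2 hJtop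
  haveI : IsLocalRing B := IsLocalRing.of_surjective' (Ideal.Quotient.mk J) Ideal.Quotient.mk_surjective
  haveI : _root_.IsReduced B := hG.reduced _ (isReduced_killIdeal _)
  have hbm : ∀ i, ab i ∈ maximalIdeal B := fun i => (mem_maximalIdeal _).2 fun hu' =>
    (mem_maximalIdeal _).1 (ham i) (by
      haveI : IsLocalHom (Ideal.Quotient.mk J) := IsLocalHom.of_surjective _ Ideal.Quotient.mk_surjective
      exact isUnit_of_map_unit (Ideal.Quotient.mk J) (a i) hu')
  haveI := free ab n hn
  haveI : IsLocalRing Kb := Kummer.isLocalRing ab n hn hbm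
  have hnz : ∀ i, ab i ∈ nonZeroDivisors B := fun i => by
    show Ideal.Quotient.mk J (a i) ∈ _
    rw [← ha]
    exact regular_killA hG _ _ (Finset.notMem_empty _)
  have hTnz : ∀ i (z : Kb), Kummer.T ab n i * z = 0 → z = 0 := fun i z hz => by
    refine regular_of_free (hnz i) ?_
    rw [← Kummer.T_pow ab n i, ← Nat.sub_add_cancel (hn i), pow_succ, mul_assoc, hz, mul_zero]
  -- elements dividing their squares
  let Qd : Kb → Prop := fun c => ∀ z, z * z = c * z → c ∣ z
  have hQ1 : Qd 1 := fun z _ => one_dvd z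
  have hQs : ∀ i c, Qd c → Qd (Kummer.T ab n i * c) := by
    intro i c hc z hz
    obtain ⟨z', rfl⟩ := root_radical e he a ha n hn hu hG i z ⟨c * z, by rw [hz, mul_assoc]⟩
    have h1 : Kummer.T ab n i * (Kummer.T ab n i * (z' * z' - c * z')) = 0 := by linear_combination hz
    obtain ⟨w, hw⟩ := hc z' (sub_eq_zero.1 (hTnz i _ (hTnz i _ h1)))
    exact ⟨w, by rw [hw, mul_assoc]⟩
  have hQp : ∀ i (m : ℕ) c, Qd c → Qd (Kummer.T ab n i ^ m * c) := fun i m => by
    induction m with
    | zero => intro c hc; rwa [pow_zero, one_mul]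
    | succ m ih => intro c hc; rw [pow_succ', mul_assoc]; exact hQs i _ (ih c hc)
  have hQ : ∀ (s : Finset ι) (m : ℕ), Qd (∏ i ∈ s, algebraMap B Kb (ab i) ^ m) := fun s m => by
    induction s using Finset.induction with
    | empty => rw [Finset.prod_empty]; exact hQ1
    | insert i s his ih =>
      rw [Finset.prod_insert his, ← Kummer.T_pow ab n i, ← pow_mul]
      exact hQp i _ _ ih
  -- the reduction
  letI : Algebra A Kb := ((algebraMap B Kb).comp (Ideal.Quotient.mk J)).toAlgebra
  obtain ⟨π, hπ⟩ := (Kummer.existsUnique_hom a n (fun i => Kummer.T ab n i) fun i => Kummer.T_pow ab n i).exists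
  let Q₀ := K ⧸ J.map (algebraMap A K)
  let ρ : B →+* Q₀ := Ideal.Quotient.lift J ((Ideal.Quotient.mk _).comp (algebraMap A K))
    fun x hx => Ideal.Quotient.eq_zero_iff_mem.2 (Ideal.mem_map_of_mem _ hx)
  letI : Algebra B Q₀ := RingHom.toAlgebra (R := A ⧸ J) (S := Q₀) ρ
  obtain ⟨ψ, hψ⟩ := (Kummer.existsUnique_hom ab n (fun i => Ideal.Quotient.mk (J.map (algebraMap A K)) (Kummer.T a n i))
    fun i => by rw [← map_pow, Kummer.T_pow]; rfl).exists
  have hψπ : ∀ w, ψ (π w) = Ideal.Quotient.mk _ w := by
    refine RingHom.congr_fun (f := ψ.toRingHom.comp π.toRingHom) (g := Ideal.Quotient.mk _)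
      (Ideal.Quotient.ringHom_ext (MvPolynomial.ringHom_ext (fun c => ?_) fun j => ?_))
    · show ψ (π (algebraMap A _ c)) = _
      rw [π.commutes]
      show ψ (algebraMap B Kb (Ideal.Quotient.mk J c)) = _
      rw [ψ.commutes]
      rfl
    · show ψ (π (Kummer.T a n j)) = Ideal.Quotient.mk _ (Kummer.T a n j)
      rw [hπ, hψ]
  have hker : ∀ w, π w = 0 → IsNilpotent w := fun w hw => by
    have h1 := hψπ w
    rw [hw, map_zero, eq_comm, Ideal.Quotient.eq_zero_iff_mem] at h1
    refine mem_nilradical.1 ((Ideal.map_le_iff_le_comap.2 fun x hx => ?_) h1)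
    exact mem_nilradical.2 ((mem_nilradical.1 (hJnil hx)).map _)
  have hπA : ∀ x, π (algebraMap A K x) = algebraMap B Kb (Ideal.Quotient.mk J x) := π.commutes
  let g := algebraMap A K (∏ i, a i)
  have hgb : π g = ∏ i, algebraMap B Kb (ab i) := by
    rw [hπA, map_prod, map_prod]
  have hgnz : ∀ (m : ℕ) (z : Kb), π g ^ m * z = 0 → z = 0 := fun m z hz => by
    refine regular_of_free (c := (∏ i, ab i) ^ m) (pow_mem (prod_mem fun i _ => hnz i) m) ?_
    rw [map_pow, map_prod, ← hgb]
    exact hz
  refine ⟨?_, fun d hd => ?_⟩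
  · refine (subsingleton_or_nontrivial D).resolve_left fun hsub => ?_
    obtain ⟨⟨_, m, rfl⟩, hm⟩ := (IsLocalization.map_eq_zero_iff (Submonoid.powers g) D (1 : K)).1
      (Subsingleton.elim _ _)
    have := congrArg π hm
    rw [map_mul, map_pow, map_one, map_zero] at this
    exact one_ne_zero (hgnz m 1 this)
  obtain ⟨z, ⟨_, N, rfl⟩, rfl⟩ := IsLocalization.exists_mk'_eq (Submonoid.powers g) d
  have hspec := IsLocalization.mk'_spec D z (⟨_, N, rfl⟩ : Submonoid.powers g)
  have hd' : algebraMap K D (z * z) = algebraMap K D (g ^ N * z) := by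
    rw [map_mul, map_mul, ← hspec]
    linear_combination (algebraMap K D (g ^ N)) ^ 2 * hd.eq
  obtain ⟨⟨_, m, rfl⟩, hm⟩ := (IsLocalization.eq_iff_exists (Submonoid.powers g) D).1 hd'
  have hm' := congrArg π hm
  simp only [map_mul, map_pow] at hm'
  have hsq : π z * π z = π g ^ N * π z :=
    sub_eq_zero.1 (hgnz m _ (by rw [mul_sub, hm', sub_self]))
  obtain ⟨w, hw⟩ : π g ^ N ∣ π z := by
    have h := hQ Finset.univ N (π z)
    rw [Finset.prod_pow, ← hgb] at h
    exact h hsq
  have hwid : w * w = w := by
    refine sub_eq_zero.1 (hgnz (N + N) _ ?_)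
    rw [hw] at hsq
    linear_combination hsq
  have hgu : IsUnit (algebraMap K D (g ^ N)) :=
    IsLocalization.map_units D (⟨_, N, rfl⟩ : Submonoid.powers g)
  set d := IsLocalization.mk' D z (⟨_, N, rfl⟩ : Submonoid.powers g) with hddef
  have hnilD : ∀ x : D, IsIdempotentElem x → IsNilpotent x → x = 0 := by
    rintro x hx ⟨k, hk⟩
    rw [← hx.pow_succ_eq k, pow_succ, hk, zero_mul]
  rcases IsLocalRing.isUnit_or_isUnit_one_sub_self w with h | h
  · have hw1 : w = 1 := h.mul_left_cancel (hwid.trans (mul_one w).symm)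
    right
    refine (sub_eq_zero.1 (hnilD (1 - d) hd.one_sub ?_)).symm
    have h1 := (hker (g ^ N - z) (by rw [map_sub, map_pow, hw, hw1, mul_one, sub_self])).map (algebraMap K D)
    rw [map_sub, ← hspec, show algebraMap K D (g ^ N) - d * algebraMap K D (g ^ N) =
      (1 - d) * algebraMap K D (g ^ N) by ring] at h1
    exact (Commute.all _ _).isNilpotent_mul_right_iff (mem_nonZeroDivisors_iff_right.1 hgu.mem_nonZeroDivisors) |>.1 h1
  · have hw0 : w = 0 := h.mul_left_cancel (by rw [sub_mul, one_mul, hwid, sub_self, mul_zero])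
    left
    refine hnilD d hd ?_
    have h1 := (hker z (by rw [hw, hw0, mul_zero])).map (algebraMap K D)
    rw [← hspec] at h1
    exact (Commute.all _ _).isNilpotent_mul_right_iff (mem_nonZeroDivisors_iff_right.1 hgu.mem_nonZeroDivisors) |>.1 h1

end main

end Groth.Agent.RelKummer
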