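import Mathlib
import Groth.Agent.RelKummer.Conn
import Groth.Agent.Hensel.HenselizationDescent
import Groth.Agent.Hensel.FiniteDescent
import Groth.Agent.RGLib.SNCChart

/-!
# Local rings along a relative normal crossings divisor are good over the coordinate ring
-/

set_option autoImplicit false
set_option linter.style.haveILetI false
set_option backward.isDefEq.respectTransparency false
set_option maxHeartbeats 1000000

universe u

open IsLocalRing TensorProduct

noncomputable section

namespace Groth.Agent.RelKummer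

theorem map_isRadical_of_etale {P G : Type u} [CommRing P] [CommRing G] [Algebra P G] [Algebra.Etale P G]
    (J : Ideal P) [_root_.IsReduced (P ⧸ J)] : (J.map (algebraMap P G)).IsRadical := by
  rw [Ideal.isRadical_iff_quotient_reduced]
  haveI : _root_.IsReduced ((P ⧸ J) ⊗[P] G) := Hensel.isReduced_of_etale (P ⧸ J) _
  let e : (G ⧸ J.map (algebraMap P G)) ≃ₐ[P] (P ⧸ J) ⊗[P] G :=
    ((Algebra.TensorProduct.quotIdealMapEquivTensorQuot G J).restrictScalars P).trans
      (Algebra.TensorProduct.comm P G (P ⧸ J))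
  exact isReduced_of_injective e e.injective

theorem isGood_of_localization {P G : Type u} [CommRing P] [CommRing G] [Algebra P G] [Algebra.Etale P G]
    (M : Submonoid G) (A : Type u) [CommRing A] [Algebra G A] [Algebra P A] [IsScalarTower P G A]
    [IsLocalization M A] : IsGood P A := by
  haveI : Module.Flat P G := Algebra.Smooth.flat P G
  haveI : Module.Flat G A := IsLocalization.flat A M
  refine ⟨Module.Flat.trans P G A, fun J hJ => ?_⟩
  haveI := hJ
  rw [← Ideal.isRadical_iff_quotient_reduced, IsScalarTower.algebraMap_eq P G A, ← Ideal.map_map]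
  intro x hx
  obtain ⟨k, hk⟩ := hx
  obtain ⟨z, s, rfl⟩ := IsLocalization.exists_mk'_eq M x
  rw [← IsLocalization.mk'_pow, IsLocalization.mk'_mem_map_algebraMap_iff] at hk
  obtain ⟨t, ht, htz⟩ := hk
  rw [IsLocalization.mk'_mem_map_algebraMap_iff]
  refine ⟨t, ht, map_isRadical_of_etale J ⟨k + 1, ?_⟩⟩
  rw [mul_pow, pow_succ' t k, pow_succ' z k, show t * t ^ k * (z * z ^ k) = t ^ k * z * (t * z ^ k) by ring]
  exact Ideal.mul_mem_left _ _ htz

/-- Radical ideals of the base generate radical ideals of the henselization. -/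
theorem map_isRadical_henz {R K : Type u} [CommRing R] [CommRing K] [Algebra R K] (J : Ideal R) (hJ : J.IsRadical) :
    (J.map (algebraMap R (Hensel.Henz R K))).IsRadical := by
  intro z hz
  obtain ⟨k, hk⟩ := hz
  obtain ⟨N, b, rfl⟩ := Hensel.Henz.exists_ofB z
  haveI : _root_.IsReduced (R ⧸ J) := (Ideal.isRadical_iff_quotient_reduced _).1 hJ
  -- a finite stage where the power lies in the ideal
  classical
  rw [← map_pow] at hk
  obtain ⟨l, hl⟩ := (Finsupp.mem_span_iff_linearCombination (Hensel.Henz R K) _ _).1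
    (show Hensel.Henz.ofB N (b ^ k) ∈ Submodule.span _ _ from hk)
  rw [Finsupp.linearCombination_apply, Finsupp.sum] at hl
  obtain ⟨M₁, α₁, hα₁, hw⟩ := Hensel.exists_ofB_list N (l.support.image fun x => l x)
  choose! w hw' using hw
  choose! j hjJ hj using fun x : (algebraMap R (Hensel.Henz R K)) '' (J : Set R) => x.2
  let d : M₁.B := α₁ (b ^ k) - ∑ x ∈ l.support, w (l x) * algebraMap R M₁.B (j x)
  have hd : Hensel.Henz.ofB M₁ d = 0 := by
    rw [map_sub, ← AlgHom.comp_apply, Hensel.Henz.ofB_comp α₁ hα₁, ← hl, map_sum, sub_eq_zero]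
    refine Finset.sum_congr rfl fun x hx => ?_
    rw [map_mul, AlgHom.commutes, hw' (l x) (Finset.mem_image_of_mem _ hx), hj x, smul_eq_mul]
  obtain ⟨M, α, hα, h0⟩ := Hensel.Henz.exists_of_ofB_eq_zero hd
  have hmem : (α (α₁ b)) ^ k ∈ J.map (algebraMap R M.B) := by
    rw [← map_pow, ← map_pow]
    rw [map_sub, sub_eq_zero] at h0
    rw [h0, map_sum]
    refine Ideal.sum_mem _ fun x _ => ?_
    rw [map_mul, AlgHom.commutes]
    exact Ideal.mul_mem_left _ _ (Ideal.mem_map_of_mem _ (hjJ x))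
  have hcomp : Hensel.Henz.ofB (R := R) (K := K) M (α (α₁ b)) = Hensel.Henz.ofB N b := by
    rw [← AlgHom.comp_apply, Hensel.Henz.ofB_comp α hα, ← AlgHom.comp_apply, Hensel.Henz.ofB_comp α₁ hα₁]
  rw [← hcomp]
  exact Hensel.algHom_mem_map _ (Hensel.Henz.ofB M) (map_isRadical_of_etale J ⟨k, hmem⟩)

/-- Strict henselizations preserve being good. -/
theorem isGood_of_strictHenselization {P A R : Type u} [CommRing P] [CommRing A] [IsLocalRing A] [CommRing R]
    [IsLocalRing R] [Algebra P A] [Algebra A R] [Algebra P R] [IsScalarTower P A R]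
    [IsLocalHom (algebraMap A R)] [Hensel.IsStrictHenselization A R] (h : IsGood P A) : IsGood P R := by
  haveI := Hensel.faithfullyFlat_of_isStrictHenselization (R := A) (S := R)
  haveI := h.flat
  refine ⟨Module.Flat.trans P A R, fun J hJ => ?_⟩
  obtain ⟨L, _, _, _, _, ⟨e⟩⟩ := Hensel.isHenzLike_of_isStrictHenselization A R
  rw [← Ideal.isRadical_iff_quotient_reduced, IsScalarTower.algebraMap_eq P A R, ← Ideal.map_map]
  intro z hz
  obtain ⟨k, hk⟩ := hz
  have h1 : e.symm z ∈ (J.map (algebraMap P A)).map (algebraMap A (Hensel.Henz A L)) := by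
    refine map_isRadical_henz _ ((Ideal.isRadical_iff_quotient_reduced _).2 (h.reduced J hJ)) ⟨k, ?_⟩
    rw [← map_pow]
    exact Hensel.algHom_mem_map _ e.symm.toAlgHom hk
  have h2 := Hensel.algHom_mem_map _ e.toAlgHom h1
  simpa using h2

section chart

open CategoryTheory CategoryTheory.Limits AlgebraicGeometry MvPolynomial

/-- Near a point of a relative normal crossings divisor the local ring is good over a coordinate ring. -/
theorem exists_chart {X S : Scheme.{u}} (f : X ⟶ S) {r : ℕ} (φ : Fin r → Γ(X, ⊤))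
    (hD : SGA1t.IsRelSNC f φ) (x : X) (hx : Nonempty (SGA1t.vanishingAt φ x)) :
    ∃ (C : CommRingCat.{u}) (d : ℕ) (e : SGA1t.vanishingAt φ x → ULift.{u} (Fin d))
      (ψ : MvPolynomial (ULift.{u} (Fin d)) C →+* X.presheaf.stalk x),
      Function.Injective e ∧ @IsGood (MvPolynomial (ULift.{u} (Fin d)) C) (X.presheaf.stalk x) _ _ ψ.toAlgebra ∧
      ∀ i, ψ (MvPolynomial.X (e i)) = (X.presheaf.germ ⊤ x trivial).hom (φ i.1) := by
  obtain ⟨W, hxW, d, v, e, he, het, hv⟩ := hD x hx
  obtain ⟨U, hU, hxU, -⟩ := exists_isAffineOpen_mem_and_subset (X := S) (x := f x) (U := ⊤) trivial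
  obtain ⟨V, hV, hxV, hVle⟩ := exists_isAffineOpen_mem_and_subset (X := X) (x := x) (U := W ⊓ f ⁻¹ᵁ U) ⟨hxW, hxU⟩
  have hVW : V ≤ W := fun z hz => (hVle hz).1
  have hVU : V ≤ f ⁻¹ᵁ U := fun z hz => (hVle hz).2
  let h : Spec Γ(X, V) ⟶ W := hV.isoSpec.inv ≫ X.homOfLE hVW
  haveI : IsOpenImmersion h := inferInstance
  have hh : h ≫ W.ι = hV.fromSpec := by
    show (hV.isoSpec.inv ≫ X.homOfLE hVW) ≫ W.ι = _
    rw [Category.assoc, Scheme.homOfLE_ι]
    rfl
  let ψ₀ : MvPolynomial (ULift.{u} (Fin d)) Γ(S, U) →+* Γ(X, V) :=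
    eval₂Hom (f.appLE U V hVU).hom fun j => (Scheme.ΓSpecIso Γ(X, V)).hom (h.appTop (v j))
  haveI := het
  haveI het' : Etale (h ≫ AffineSpace.homOfVector (W.ι ≫ f) v) := inferInstance
  have hfac : Spec.map (CommRingCat.ofHom ψ₀) ≫ (AffineSpace.SpecIso (ULift.{u} (Fin d)) Γ(S, U)).inv ≫
      AffineSpace.map (ULift.{u} (Fin d)) hU.fromSpec = h ≫ AffineSpace.homOfVector (W.ι ≫ f) v := by
    apply AffineSpace.hom_ext
    · rw [Category.assoc, Category.assoc, AffineSpace.map_over, AffineSpace.SpecIso_inv_over_assoc,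
        Category.assoc, AffineSpace.homOfVector_over, ← Category.assoc h, hh]
      rw [← IsAffineOpen.SpecMap_appLE_fromSpec f hU hV hVU, ← Category.assoc, ← Spec.map_comp]
      congr 2
      exact CommRingCat.hom_ext (RingHom.ext fun c => eval₂Hom_C _ _ c)
    · intro j
      rw [Scheme.Hom.comp_appTop, CommRingCat.comp_apply, Scheme.Hom.comp_appTop, CommRingCat.comp_apply,
        AffineSpace.map_appTop_coord, AffineSpace.SpecIso_inv_appTop_coord, Scheme.Hom.comp_appTop,
        CommRingCat.comp_apply, AffineSpace.homOfVector_appTop_coord]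
      rw [← CommRingCat.comp_apply, ← Scheme.ΓSpecIso_inv_naturality, CommRingCat.comp_apply]
      show (Scheme.ΓSpecIso Γ(X, V)).inv (ψ₀ (MvPolynomial.X j)) = _
      rw [show ψ₀ (MvPolynomial.X j) = _ from eval₂Hom_X' _ _ _]
      exact (Scheme.ΓSpecIso Γ(X, V)).hom_inv_id_apply _
  haveI : IsOpenImmersion (AffineSpace.map (ULift.{u} (Fin d)) hU.fromSpec) :=
    MorphismProperty.of_isPullback (P := @IsOpenImmersion) (AffineSpace.isPullback_map hU.fromSpec).flip inferInstance
  have het₀ : ψ₀.Etale := by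
    have h1 : Etale (Spec.map (CommRingCat.ofHom ψ₀)) := by
      refine MorphismProperty.of_postcomp (W := @Etale) (W' := @IsOpenImmersion) (Spec.map (CommRingCat.ofHom ψ₀))
        ((AffineSpace.SpecIso (ULift.{u} (Fin d)) Γ(S, U)).inv ≫ AffineSpace.map (ULift.{u} (Fin d)) hU.fromSpec)
        inferInstance ?_
      rw [hfac]
      infer_instance
    rw [HasRingHomProperty.Spec_iff (P := @Etale)] at h1
    exact h1
  let g : Γ(X, V) ⟶ X.presheaf.stalk x := X.presheaf.germ V x hxV
  have hg : Spec.map g ≫ hV.fromSpec = X.fromSpecStalk x := hV.fromSpecStalk_eq_fromSpecStalk hxV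
  haveI het' : ψ₀.Etale := het₀
  refine ⟨Γ(S, U), d, fun i => ULift.up (e i), g.hom.comp ψ₀, ULift.up_injective.comp he, ?_, fun i => ?_⟩
  · letI := ψ₀.toAlgebra
    letI : Algebra Γ(X, V) (X.presheaf.stalk x) := TopCat.Presheaf.algebra_section_stalk X.presheaf (⟨x, hxV⟩ : V)
    letI := (g.hom.comp ψ₀).toAlgebra
    haveI : IsScalarTower (MvPolynomial (ULift.{u} (Fin d)) Γ(S, U)) Γ(X, V) (X.presheaf.stalk x) :=
      .of_algebraMap_eq fun _ => rfl
    haveI : Algebra.Etale (MvPolynomial (ULift.{u} (Fin d)) Γ(S, U)) Γ(X, V) := het₀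
    haveI := hV.isLocalization_stalk ⟨x, hxV⟩
    exact isGood_of_localization (G := Γ(X, V)) (hV.primeIdealOf ⟨x, hxV⟩).asIdeal.primeCompl (X.presheaf.stalk x)
  · show g (ψ₀ (MvPolynomial.X (ULift.up (e i)))) = _
    rw [show ψ₀ (MvPolynomial.X (ULift.up (e i))) = _ from eval₂Hom_X' _ _ _, hv i]
    have h2 : W.topIso.inv (X.presheaf.map (homOfLE le_top).op (φ i.1)) = W.ι.appTop (φ i.1) := by
      rw [Scheme.Opens.ι_appTop, Scheme.Opens.topIso_inv, ← CommRingCat.comp_apply]
      refine ConcreteCategory.congr_hom ?_ (φ i.1)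
      exact (X.presheaf.map_comp _ _).symm
    rw [h2]
    have h3 := congrArg (fun k : Spec (X.presheaf.stalk x) ⟶ X => k.appTop (φ i.1))
      ((congrArg (Spec.map g ≫ ·) hh).trans hg)
    simp only [Scheme.Hom.comp_appTop, CommRingCat.comp_apply, Scheme.fromSpecStalk_appTop] at h3
    rw [← CommRingCat.comp_apply (Scheme.ΓSpecIso Γ(X, V)).hom g, ← Scheme.ΓSpecIso_naturality, CommRingCat.comp_apply, h3]
    refine (congrArg (Scheme.ΓSpecIso (X.presheaf.stalk x)).hom
      (ConcreteCategory.congr_hom ((Spec (X.presheaf.stalk x)).presheaf.map_id _) _)).trans ?_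
    exact (Scheme.ΓSpecIso (X.presheaf.stalk x)).inv_hom_id_apply _

end chart

end Groth.Agent.RelKummer
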