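import Mathlib
import Groth.Agent.RelKummer.Conn
import Groth.Agent.RGLib.KummerLocal

/-!
# Automorphisms of Kummer covers over a strictly henselian ring
-/

set_option autoImplicit false
set_option linter.style.haveILetI false
set_option backward.isDefEq.respectTransparency false
set_option maxHeartbeats 1000000

universe u

open IsLocalRing TensorProduct

noncomputable section

namespace Groth.Agent.RelKummer

open RGLib

/-- A strictly henselian ring contains the roots of unity of invertible order of its field valued points. -/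
theorem exists_root_of_unity {R Ω : Type u} [CommRing R] (hR : HenselianLocalRing R) [IsSepClosed (ResidueField R)]
    [Field Ω] (h : R →+* Ω) {m : ℕ} (hm : 1 ≤ m) (hmu : IsUnit (m : R)) {u : Ω} (hu : u ^ m = 1) :
    ∃ ζ : R, ζ ^ m = 1 ∧ h ζ = u := by
  classical
  open Polynomial in
  haveI := hR
  have hmk : IsUnit ((m : ℕ) : ResidueField R) := by
    rw [← map_natCast (residue R)]; exact hmu.map _
  let pκ : Polynomial (ResidueField R) := X ^ m - C 1
  let p : Polynomial R := X ^ m - 1
  have hp : p.Monic := monic_X_pow_sub_C 1 (by omega)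
  have hsep : pκ.Separable := separable_X_pow_sub_C 1 hmk.ne_zero one_ne_zero
  have hcard : pκ.roots.toFinset.card = m := by
    rw [Multiset.toFinset_card_of_nodup (nodup_roots hsep),
      ← (IsSepClosed.splits_of_separable _ hsep).natDegree_eq_card_roots, natDegree_X_pow_sub_C]
  have hlift : ∀ c ∈ pκ.roots.toFinset, ∃ a : R, a ^ m = 1 ∧ residue R a = c := by
    intro c hc
    obtain ⟨a₀, rfl⟩ := residue_surjective c
    have hc' : residue R a₀ ^ m = 1 := by
      have := (mem_roots'.1 (Multiset.mem_toFinset.1 hc)).2
      simpa [pκ, sub_eq_zero] using this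
    obtain ⟨a, ha, haa⟩ := HenselianLocalRing.is_henselian p hp a₀
      (by rw [← residue_eq_zero_iff]; simp [p, hc']) (by
        have : IsUnit (residue R ((derivative p).eval a₀)) := by
          simp only [p, derivative_sub, derivative_X_pow, derivative_one, sub_zero, eval_mul, eval_C, eval_natCast,
            eval_pow, eval_X, map_mul, map_natCast, map_pow]
          refine hmk.mul (IsUnit.pow _ (isUnit_iff_ne_zero.2 fun h0 => ?_))
          rw [h0, zero_pow (by omega : m ≠ 0)] at hc'
          exact zero_ne_one hc'
        exact IsUnit.of_map (residue R) _ this)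
    refine ⟨a, by simpa [p, sub_eq_zero] using ha, ?_⟩
    rw [← sub_eq_zero, ← map_sub]
    exact (residue_eq_zero_iff _).2 haa
  choose! lift hl1 hl2 using hlift
  let q : Polynomial Ω := X ^ m - C 1
  have hq : q ≠ 0 := X_pow_sub_C_ne_zero (by omega) 1
  let S := pκ.roots.toFinset.image fun c => h (lift c)
  have hS : S.card = m := by
    rw [Finset.card_image_of_injOn, hcard]
    intro c hc c' hc' heq
    rw [← hl2 c hc, ← hl2 c' hc']
    by_contra hne
    have h1 : IsUnit (lift c - lift c') := (residue_ne_zero_iff_isUnit _).1 (by rwa [map_sub, sub_ne_zero])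
    exact (h1.map h).ne_zero (by rw [map_sub, sub_eq_zero]; exact heq)
  have hsub : S ⊆ q.roots.toFinset := by
    intro y hy
    obtain ⟨c, hc, rfl⟩ := Finset.mem_image.1 hy
    rw [Multiset.mem_toFinset, mem_roots hq]
    simp [q, ← map_pow, hl1 c hc]
  have hle : q.roots.toFinset.card ≤ S.card := by
    rw [hS]
    exact (Multiset.toFinset_card_le _).trans ((card_roots' q).trans_eq natDegree_X_pow_sub_C)
  have humem : u ∈ q.roots.toFinset := by
    rw [Multiset.mem_toFinset, mem_roots hq]
    simp [q, hu]
  rw [← Finset.eq_of_subset_of_card_le hsub hle, Finset.mem_image] at humem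
  obtain ⟨c, hc, rfl⟩ := humem
  exact ⟨lift c, hl1 c hc, rfl⟩

/-- Rigidity of endomorphisms of a connected étale algebra. -/
theorem eq_of_comp_eq {R D Ω : Type u} [CommRing R] [CommRing D] [Algebra R D] [Algebra.FormallyUnramified R D]
    [Algebra.EssFiniteType R D] (hD : ∀ d : D, IsIdempotentElem d → d = 0 ∨ d = 1) [Field Ω] (χ : D →+* Ω)
    (σ τ : D →ₐ[R] D) (h : ∀ x, χ (σ x) = χ (τ x)) : σ = τ := by
  let Φ : D ⊗[R] D →ₐ[R] D := Algebra.TensorProduct.lift σ τ fun _ _ => .all _ _
  let el := Algebra.FormallyUnramified.elem R D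
  have hχ : ∀ z, χ (Φ z) = χ (σ (Algebra.TensorProduct.lmul' R z)) := fun z => by
    induction z using TensorProduct.induction_on with
    | zero => simp
    | tmul a b => simp [Φ, h]
    | add u v hu hv => simp only [map_add, hu, hv]
  have h1 : χ (Φ el) = 1 := by
    rw [hχ, Algebra.FormallyUnramified.lmul_elem, map_one, map_one]
  have hid : IsIdempotentElem el := by
    have key : ∀ z : D ⊗[R] D, z * el = (Algebra.TensorProduct.lmul' R z ⊗ₜ 1) * el := fun z => by
      induction z using TensorProduct.induction_on with
      | zero => simp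
      | tmul a b =>
        have := Algebra.FormallyUnramified.one_tmul_mul_elem (R := R) (S := D) b
        rw [Algebra.TensorProduct.lmul'_apply_tmul, ← one_mul b, ← mul_one a, ← Algebra.TensorProduct.tmul_mul_tmul,
          mul_assoc, this, ← mul_assoc, Algebra.TensorProduct.tmul_mul_tmul]
        simp [el]
      | add u v hu hv => rw [add_mul, hu, hv, map_add, TensorProduct.add_tmul, add_mul]
    show el * el = el
    rw [key el, Algebra.FormallyUnramified.lmul_elem]
    exact one_mul el
  rcases hD (Φ el) (hid.map Φ) with h0 | h0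
  · rw [h0, map_zero] at h1; exact absurd h1 zero_ne_one
  · refine AlgHom.ext fun x => ?_
    have := congrArg Φ (Algebra.FormallyUnramified.one_tmul_mul_elem (R := R) (S := D) x)
    rw [map_mul, map_mul, show Φ (Algebra.FormallyUnramified.elem R D) = 1 from h0, mul_one, mul_one] at this
    simp only [Φ, Algebra.TensorProduct.lift_tmul, map_one, one_mul, mul_one] at this
    exact this.symm

variable {R : Type u} [CommRing R] {ι : Type} (a : ι → R) (n : ι → ℕ)

/-- The twist by roots of unity. -/
def twist (ζ : ∀ i, rootsOfUnity (n i) R) : Kummer.K R a n →ₐ[R] Kummer.K R a n :=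
  { SGA1t.kummerTwist R a n ζ with
    commutes' := fun c => by
      show SGA1t.kummerTwist R a n ζ (Ideal.Quotient.mk _ (MvPolynomial.C c)) = _
      simp only [SGA1t.kummerTwist, Ideal.Quotient.lift_mk, RingHom.comp_apply, AlgHom.toRingHom_eq_coe, RingHom.coe_coe,
        MvPolynomial.aeval_C]
      rfl }

theorem twist_T (ζ : ∀ i, rootsOfUnity (n i) R) (i : ι) :
    twist a n ζ (Kummer.T a n i) = algebraMap R _ ((ζ i : Rˣ) : R) * Kummer.T a n i := by
  show SGA1t.kummerTwist R a n ζ (Ideal.Quotient.mk _ (MvPolynomial.X i)) = _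
  simp only [SGA1t.kummerTwist, Ideal.Quotient.lift_mk, RingHom.comp_apply, AlgHom.toRingHom_eq_coe, RingHom.coe_coe,
    MvPolynomial.aeval_X, map_mul]
  rfl

theorem twist_one : twist a n 1 = AlgHom.id R _ := Kummer.hom_ext a n fun i => by
  rw [twist_T]; simp

theorem twist_mul (ζ η : ∀ i, rootsOfUnity (n i) R) : twist a n (ζ * η) = (twist a n ζ).comp (twist a n η) :=
  Kummer.hom_ext a n fun i => by
    rw [AlgHom.comp_apply, twist_T, twist_T, map_mul, AlgHom.commutes, twist_T]
    simp only [Pi.mul_apply, Subgroup.coe_mul, Units.val_mul, map_mul]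
    ring

end Groth.Agent.RelKummer
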