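import Mathlib
import Groth.Prelude.Def_PiSp
import Groth.Agent.RelKummer.Galois
import Groth.Agent.AbhAbs.Scheme

/-!
# The Kummer cover of a complement as a Galois cover
-/

set_option autoImplicit false
set_option linter.style.haveILetI false
set_option backward.isDefEq.respectTransparency false
set_option backward.isDefEq.respectTransparency.types false
set_option maxHeartbeats 1000000

universe u

open CategoryTheory CategoryTheory.Limits AlgebraicGeometry IsLocalRing

noncomputable section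

namespace Groth.Agent.RelKummer

open RGLib

/-- The twist on a localization. -/
def twistD {R : Type u} [CommRing R] {ι : Type} (a : ι → R) (n : ι → ℕ) (F : R) (D : Type u) [CommRing D]
    [Algebra (Kummer.K R a n) D] [Algebra R D] [IsScalarTower R (Kummer.K R a n) D]
    [IsLocalization.Away (algebraMap R (Kummer.K R a n) F) D] (ζ : ∀ i, rootsOfUnity (n i) R) : D →ₐ[R] D :=
  IsLocalization.liftAlgHom (M := Submonoid.powers (algebraMap R (Kummer.K R a n) F))
    (f := (IsScalarTower.toAlgHom R (Kummer.K R a n) D).comp (twist a n ζ)) (by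
      rintro ⟨_, m, rfl⟩
      rw [AlgHom.comp_apply, map_pow, AlgHom.commutes, IsScalarTower.toAlgHom_apply, map_pow]
      exact (IsLocalization.Away.algebraMap_isUnit (S := D) (algebraMap R (Kummer.K R a n) F)).pow m)

section props

variable {R : Type u} [CommRing R] {ι : Type} (a : ι → R) (n : ι → ℕ) (F : R) (D : Type u) [CommRing D]
  [Algebra (Kummer.K R a n) D] [Algebra R D] [IsScalarTower R (Kummer.K R a n) D]
  [IsLocalization.Away (algebraMap R (Kummer.K R a n) F) D]

theorem twistD_algebraMap (ζ : ∀ i, rootsOfUnity (n i) R) (k : Kummer.K R a n) :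
    twistD a n F D ζ (algebraMap _ D k) = algebraMap _ D (twist a n ζ k) :=
  IsLocalization.lift_eq _ k

include F in
theorem algHom_ext_kummer {Q : Type u} [CommRing Q] [Algebra R Q] {g g' : D →ₐ[R] Q}
    (h : ∀ i, g (algebraMap _ D (Kummer.T a n i)) = g' (algebraMap _ D (Kummer.T a n i))) : g = g' := by
  refine AlgHom.coe_ringHom_injective (IsLocalization.ringHom_ext
    (Submonoid.powers (algebraMap R (Kummer.K R a n) F)) ?_)
  exact congrArg AlgHom.toRingHom (Kummer.hom_ext a n
    (g := g.comp (IsScalarTower.toAlgHom R (Kummer.K R a n) D))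
    (g' := g'.comp (IsScalarTower.toAlgHom R (Kummer.K R a n) D)) h)

theorem twistD_one : twistD a n F D 1 = AlgHom.id R D := algHom_ext_kummer a n F D fun i => by
  rw [twistD_algebraMap, twist_one]; rfl

theorem twistD_mul (ζ η : ∀ i, rootsOfUnity (n i) R) :
    twistD a n F D (ζ * η) = (twistD a n F D ζ).comp (twistD a n F D η) := algHom_ext_kummer a n F D fun i => by
  rw [twistD_algebraMap, twist_mul, AlgHom.comp_apply, AlgHom.comp_apply, twistD_algebraMap, twistD_algebraMap]

theorem twistD_comm (ζ η : ∀ i, rootsOfUnity (n i) R) :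
    (twistD a n F D ζ).comp (twistD a n F D η) = (twistD a n F D η).comp (twistD a n F D ζ) := by
  rw [← twistD_mul, ← twistD_mul, mul_comm]

theorem exists_twist (hR : HenselianLocalRing R) [IsSepClosed (ResidueField R)] (hF : ∀ i, a i ∣ F)
    (hn : ∀ i, 1 ≤ n i) (hu : ∀ i, IsUnit ((n i : ℕ) : R)) {Ω : Type u} [Field Ω] (χ χ' : D →+* Ω)
    (h : ∀ r, χ (algebraMap R D r) = χ' (algebraMap R D r)) :
    ∃ ζ : ∀ i, rootsOfUnity (n i) R, ∀ x, χ (twistD a n F D ζ x) = χ' x := by
  let t : ι → D := fun i => algebraMap _ D (Kummer.T a n i)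
  have hpow : ∀ i (c : D →+* Ω), c (t i) ^ n i = c (algebraMap R D (a i)) := fun i c => by
    simp only [t]
    rw [← map_pow, ← map_pow, Kummer.T_pow, ← IsScalarTower.algebraMap_apply]
  have hne : ∀ i, χ (t i) ≠ 0 := fun i h0 => by
    have h1 := hpow i χ
    rw [h0, zero_pow (Nat.one_le_iff_ne_zero.1 (hn i))] at h1
    have h2 : IsUnit (algebraMap R D (a i)) := by
      refine isUnit_of_dvd_unit (map_dvd _ (hF i)) ?_
      rw [IsScalarTower.algebraMap_apply R (Kummer.K R a n) D]
      exact IsLocalization.Away.algebraMap_isUnit _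
    exact (h2.map χ).ne_zero h1.symm
  have hrat : ∀ i, (χ' (t i) / χ (t i)) ^ n i = 1 := fun i => by
    rw [div_pow, hpow, hpow, h, div_self]
    rw [← h, ← hpow]
    exact pow_ne_zero _ (hne i)
  choose z hz1 hz2 using fun i => exists_root_of_unity hR (χ.comp (algebraMap R D)) (hn i) (hu i) (hrat i)
  let ζ : ∀ i, rootsOfUnity (n i) R := fun i =>
    ⟨Units.ofPowEqOne (z i) (n i) (hz1 i) (Nat.one_le_iff_ne_zero.1 (hn i)),
      (mem_rootsOfUnity _ _).2 (Units.pow_ofPowEqOne _ _)⟩
  refine ⟨ζ, fun x => ?_⟩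
  letI : Algebra R Ω := (χ.comp (algebraMap R D)).toAlgebra
  let g : D →ₐ[R] Ω :=
    { χ.comp (twistD a n F D ζ).toRingHom with
      commutes' := fun r => congrArg χ ((twistD a n F D ζ).commutes r) }
  let g' : D →ₐ[R] Ω := { χ' with commutes' := fun r => (h r).symm }
  refine DFunLike.congr_fun (algHom_ext_kummer a n F D (g := g) (g' := g') fun i => ?_) x
  show χ (twistD a n F D ζ (t i)) = χ' (t i)
  simp only [t]
  rw [twistD_algebraMap, twist_T, map_mul, map_mul, ← IsScalarTower.algebraMap_apply]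
  show χ (algebraMap R D (z i)) * χ (t i) = χ' (t i)
  rw [show χ (algebraMap R D (z i)) = χ' (t i) / χ (t i) from hz2 i, div_mul_cancel₀ _ (hne i)]

theorem twistD_injective [IsLocalRing R] (hu : ∀ i, IsUnit ((n i : ℕ) : R))
    (hF : ∀ i, a i ∣ F) (hn : ∀ i, 1 ≤ n i) [Nontrivial D]
    (ζ : ∀ i, rootsOfUnity (n i) R) (h : twistD a n F D ζ = AlgHom.id R D) : ζ = 1 := by
  funext i
  refine Subtype.ext (Units.ext ?_)
  show ((ζ i : Rˣ) : R) = 1
  have hpow : ((ζ i : Rˣ) : R) ^ n i = 1 := by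
    have := (mem_rootsOfUnity _ _).1 (ζ i).2
    simpa using congrArg Units.val this
  by_contra hne
  have h1 : IsUnit (((ζ i : Rˣ) : R) - 1) := KummerLocal.isUnit_sub_one (hu i) hpow hne
  have h2 : twistD a n F D ζ (algebraMap _ D (Kummer.T a n i)) = algebraMap _ D (Kummer.T a n i) := by rw [h]; rfl
  rw [twistD_algebraMap, twist_T, map_mul, ← IsScalarTower.algebraMap_apply] at h2
  have hTu : IsUnit (algebraMap (Kummer.K R a n) D (Kummer.T a n i)) := by
    refine (isUnit_pow_iff (Nat.one_le_iff_ne_zero.1 (hn i))).1 ?_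
    rw [← map_pow, Kummer.T_pow, ← IsScalarTower.algebraMap_apply]
    refine isUnit_of_dvd_unit (map_dvd _ (hF i)) ?_
    rw [IsScalarTower.algebraMap_apply R (Kummer.K R a n) D]
    exact IsLocalization.Away.algebraMap_isUnit _
  have h3 := (h1.map (algebraMap R D))
  rw [map_sub, map_one] at h3
  have h4 : (algebraMap R D ((ζ i : Rˣ) : R) - 1) * algebraMap _ D (Kummer.T a n i) = 0 := by
    rw [sub_mul, one_mul, h2, sub_self]
  exact (h3.mul hTu).ne_zero h4

end props

/-- The Kummer cover of the complement is Galois with group the roots of unity. -/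
theorem galois {R : Type u} [CommRing R] (hR : HenselianLocalRing R) [IsSepClosed (ResidueField R)] {ι : Type}
    [Fintype ι] (a : ι → R) (n : ι → ℕ) (hn : ∀ i, 1 ≤ n i) (hu : ∀ i, IsUnit ((n i : ℕ) : R))
    (U : (Spec (CommRingCat.of R)).Opens)
    (hU : (U : Set (Spec (CommRingCat.of R))) = (PrimeSpectrum.basicOpen (∏ i, a i) : Set (PrimeSpectrum R)))
    (hconn : ∀ (D : Type u) [CommRing D] [Algebra (SGA1t.kummer R a n) D]
      [IsLocalization.Away (algebraMap R (SGA1t.kummer R a n) (∏ i, a i)) D],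
      Nontrivial D ∧ ∀ d : D, IsIdempotentElem d → d = 0 ∨ d = 1)
    (hP : FEt.prop ((Spec.map (CommRingCat.ofHom (algebraMap R (SGA1t.kummer R a n)))) ∣_ U)) :
    PiSp.IsGaloisCover (MorphismProperty.Over.mk ⊤ ((Spec.map (CommRingCat.ofHom (algebraMap R (SGA1t.kummer R a n)))) ∣_ U) hP) ∧
      ∃ θ : ((i : ι) → ↥(rootsOfUnity (n i) R)) ≃*
          Aut (MorphismProperty.Over.mk ⊤ ((Spec.map (CommRingCat.ofHom (algebraMap R (SGA1t.kummer R a n)))) ∣_ U) hP :
            FEt.Cat (U : Scheme.{u})),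
        ∀ ζ, (θ ζ).hom.left ≫ ((Spec.map (CommRingCat.ofHom (algebraMap R (SGA1t.kummer R a n)))) ⁻¹ᵁ U).ι =
          ((Spec.map (CommRingCat.ofHom (algebraMap R (SGA1t.kummer R a n)))) ⁻¹ᵁ U).ι ≫
            Spec.map (CommRingCat.ofHom (SGA1t.kummerTwist R a n ζ)) := by
  haveI := hR
  let F := ∏ i, a i
  let K := Kummer.K R a n
  obtain ⟨D, _, _, _, _, h1, h2, h3⟩ := exists_away (R := K) F (Localization.Away F)
  haveI := h1
  haveI := h2
  haveI := h3
  obtain ⟨hDnt, hidem⟩ := hconn D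
  haveI := hDnt
  have hF : ∀ i, a i ∣ F := fun i => Finset.dvd_prod_of_mem a (Finset.mem_univ i)
  haveI : Algebra.Etale (Localization.Away F) D := etale_away a n hn hu F hF (Localization.Away F) D
  haveI : Algebra.Etale R (Localization.Away F) := Algebra.Etale.of_isLocalizationAway F
  haveI : Algebra.Etale R D := Algebra.Etale.comp R (Localization.Away F) D
  let π := Spec.map (CommRingCat.ofHom (algebraMap R K))
  let U' := π ⁻¹ᵁ U
  have hU' : (U' : Set (Spec (CommRingCat.of K))) = (PrimeSpectrum.basicOpen (algebraMap R K F) : Set (PrimeSpectrum K)) := by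
    show π.base ⁻¹' (U : Set (Spec (CommRingCat.of R))) = _
    rw [hU]
    rfl
  let eU := AbhAbs.specAwayIso (algebraMap R K F) D U' hU'
  have heU : eU.hom ≫ U'.ι = Spec.map (CommRingCat.ofHom (algebraMap K D)) := AbhAbs.specAwayIso_ι _ D U' hU'
  have hp : eU.hom ≫ (π ∣_ U) ≫ U.ι = Spec.map (CommRingCat.ofHom (algebraMap R D)) := by
    rw [morphismRestrict_ι, ← Category.assoc, heU, ← Spec.map_comp]
    congr 1
    ext r
    exact (IsScalarTower.algebraMap_apply R K D r).symm
  let W : FEt.Cat (U : Scheme.{u}) := MorphismProperty.Over.mk ⊤ (π ∣_ U) hP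
  -- the action
  let act : ((i : ι) → ↥(rootsOfUnity (n i) R)) → ((U' : Scheme.{u}) ⟶ (U' : Scheme.{u})) := fun ζ =>
    eU.inv ≫ Spec.map (CommRingCat.ofHom (twistD a n F D ζ).toRingHom) ≫ eU.hom
  have hact : ∀ ζ η, act (ζ * η) = act η ≫ act ζ := fun ζ η => by
    simp only [act, Category.assoc, Iso.hom_inv_id_assoc]
    rw [← Category.assoc (Spec.map _) (Spec.map _), ← Spec.map_comp, mul_comm ζ η, twistD_mul]
    rfl
  have hact1 : act 1 = 𝟙 _ := by
    simp only [act, twistD_one]
    show eU.inv ≫ Spec.map (𝟙 (CommRingCat.of D)) ≫ eU.hom = _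
    rw [Spec.map_id, Category.id_comp, Iso.inv_hom_id]
  have hactw : ∀ ζ, act ζ ≫ (π ∣_ U) = π ∣_ U := fun ζ => by
    rw [← cancel_epi eU.hom, ← cancel_mono U.ι]
    simp only [act, Category.assoc, Iso.hom_inv_id_assoc, hp, ← Spec.map_comp]
    congr 1
    ext r
    exact (twistD a n F D ζ).commutes r
  let iso : ((i : ι) → ↥(rootsOfUnity (n i) R)) → ((U' : Scheme.{u}) ≅ (U' : Scheme.{u})) := fun ζ =>
    { hom := act ζ, inv := act ζ⁻¹
      hom_inv_id := by rw [← hact, inv_mul_cancel, hact1]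
      inv_hom_id := by rw [← hact, mul_inv_cancel, hact1] }
  let θ₀ : ((i : ι) → ↥(rootsOfUnity (n i) R)) →* Aut W :=
    { toFun := fun ζ => MorphismProperty.Over.isoMk (iso ζ) (hactw ζ)
      map_one' := Iso.ext (MorphismProperty.Over.Hom.ext hact1)
      map_mul' := fun ζ η => Iso.ext (MorphismProperty.Over.Hom.ext (hact ζ η)) }
  -- endomorphisms as algebra maps
  let toAlg : ∀ σ : W ⟶ W, ∃ s : D →ₐ[R] D, eU.inv ≫ Spec.map (CommRingCat.ofHom s.toRingHom) ≫ eU.hom = σ.left := by
    intro σ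
    let l : (U' : Scheme.{u}) ⟶ (U' : Scheme.{u}) := σ.left
    have hl : l ≫ (π ∣_ U) = π ∣_ U := Over.w σ.hom
    let s₀ : CommRingCat.of D ⟶ CommRingCat.of D := Spec.preimage (eU.hom ≫ l ≫ eU.inv)
    have hs₀ : Spec.map s₀ = eU.hom ≫ l ≫ eU.inv := Spec.map_preimage _
    have hcomm : CommRingCat.ofHom (algebraMap R D) ≫ s₀ = CommRingCat.ofHom (algebraMap R D) := by
      refine Spec.map_injective ?_
      rw [Spec.map_comp, hs₀, ← hp]
      simp only [Category.assoc, Iso.inv_hom_id_assoc]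
      rw [← Category.assoc l, hl]
    refine ⟨{ s₀.hom with commutes' := fun r => RingHom.congr_fun (congrArg CommRingCat.Hom.hom hcomm) r }, ?_⟩
    show eU.inv ≫ Spec.map s₀ ≫ eU.hom = l
    rw [hs₀]
    simp
  -- points as ring maps
  have toPt : ∀ (Ω : Type u) [Field Ω] (s : Spec (CommRingCat.of Ω) ⟶ (U' : Scheme.{u})),
      ∃ χ : D →+* Ω, Spec.map (CommRingCat.ofHom χ) ≫ eU.hom = s := fun Ω _ s =>
    ⟨(Spec.preimage (s ≫ eU.inv)).hom, by
      show Spec.map (Spec.preimage (s ≫ eU.inv)) ≫ eU.hom = s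
      rw [Spec.map_preimage, Category.assoc, Iso.inv_hom_id, Category.comp_id]⟩
  have htrans : ∀ (Ω : Type u) [Field Ω] (χ χ' : D →+* Ω)
      (_ : Spec.map (CommRingCat.ofHom χ) ≫ eU.hom ≫ (π ∣_ U) = Spec.map (CommRingCat.ofHom χ') ≫ eU.hom ≫ (π ∣_ U)),
      ∃ ζ, ∀ x, χ (twistD a n F D ζ x) = χ' x := by
    intro Ω _ χ χ' h
    refine exists_twist a n F D hR hF hn hu χ χ' fun r => ?_
    have h' := congrArg (· ≫ U.ι) h
    simp only [Category.assoc, hp, ← Spec.map_comp] at h'
    exact RingHom.congr_fun (congrArg CommRingCat.Hom.hom (Spec.map_injective h')) r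
  have hconnW : ConnectedSpace W.left := by
    haveI : ConnectedSpace (Spec (CommRingCat.of D)) := by
      show ConnectedSpace (PrimeSpectrum D)
      refine connectedSpace_iff_clopen.mpr ⟨inferInstance, fun s hs => ?_⟩
      obtain ⟨e, he, rfl⟩ := PrimeSpectrum.isClopen_iff.mp hs
      rcases hidem e he with rfl | rfl <;> simp
    exact eU.hom.homeomorph.surjective.connectedSpace eU.hom.homeomorph.continuous
  refine ⟨⟨hconnW, fun Ω _ _ ξ s t => ?_⟩, MulEquiv.ofBijective θ₀ ⟨?_, ?_⟩, fun ζ => ?_⟩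
  · obtain ⟨s, hs⟩ := s
    obtain ⟨t, ht⟩ := t
    obtain ⟨χ, rfl⟩ := toPt Ω s
    obtain ⟨χ', rfl⟩ := toPt Ω t
    obtain ⟨ζ, hζ⟩ := htrans Ω χ χ' (by
      rw [← Category.assoc, ← Category.assoc]
      exact hs.trans ht.symm)
    refine ⟨θ₀ ζ, Subtype.ext ?_⟩
    show (Spec.map (CommRingCat.ofHom χ) ≫ eU.hom) ≫ act ζ = _
    simp only [act, Category.assoc, Iso.hom_inv_id_assoc]
    rw [← Category.assoc, ← Spec.map_comp]
    congr 2
    ext x
    exact hζ x
  · refine (injective_iff_map_eq_one θ₀).2 fun ζ hζ => twistD_injective a n F D hu hF hn ζ ?_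
    have h0 : act ζ = 𝟙 _ := congrArg (fun g : W ≅ W => g.hom.left) hζ
    simp only [act] at h0
    rw [Iso.inv_comp_eq, Category.comp_id] at h0
    have h1 : Spec.map (CommRingCat.ofHom (twistD a n F D ζ).toRingHom) = Spec.map (𝟙 _) := by
      rw [Spec.map_id, ← cancel_mono eU.hom, Category.id_comp]
      exact h0
    exact AlgHom.coe_ringHom_injective (congrArg CommRingCat.Hom.hom (Spec.map_injective h1))
  · intro σ
    obtain ⟨s, hs⟩ := toAlg σ.hom
    let p₀ : Ideal D := (Classical.arbitrary (PrimeSpectrum D)).asIdeal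
    let Ω := AlgebraicClosure p₀.ResidueField
    let χ : D →+* Ω := (algebraMap p₀.ResidueField Ω).comp (algebraMap D p₀.ResidueField)
    obtain ⟨ζ, hζ⟩ := htrans Ω χ (χ.comp s.toRingHom) (by
      rw [← cancel_mono U.ι]
      simp only [Category.assoc, hp, ← Spec.map_comp]
      congr 1
      ext r
      exact (congrArg χ (s.commutes r)).symm)
    have heq : twistD a n F D ζ = s := eq_of_comp_eq hidem χ _ _ hζ
    refine ⟨ζ, Iso.ext (MorphismProperty.Over.Hom.ext ?_)⟩
    show act ζ = σ.hom.left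
    simp only [act, heq]
    exact hs
  · show act ζ ≫ U'.ι = U'.ι ≫ Spec.map (CommRingCat.ofHom (twist a n ζ).toRingHom)
    rw [← cancel_epi eU.hom]
    simp only [act, Category.assoc, Iso.hom_inv_id_assoc, heU]
    rw [← Category.assoc, heU, ← Spec.map_comp, ← Spec.map_comp]
    congr 1
    exact CommRingCat.hom_ext (RingHom.ext fun k => twistD_algebraMap a n F D ζ k)

end Groth.Agent.RelKummer
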