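import Mathlib
import Groth.Prelude.Def_Hens2
import Groth.Agent.RelKummer.Good
import Groth.Agent.RelKummer.Scheme

/-!
# The complement of a relative divisor in a local scheme
-/

set_option autoImplicit false
set_option linter.style.haveILetI false
set_option backward.isDefEq.respectTransparency false
set_option backward.isDefEq.respectTransparency.types false

universe u

open CategoryTheory CategoryTheory.Limits AlgebraicGeometry IsLocalRing

noncomputable section

namespace Groth.Agent.RelKummer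

/-- The pullback of a function to a local algebra. -/
theorem specOf_appTop (X : Scheme.{u}) (x : X) (R : Type u) [CommRing R] [Algebra (X.presheaf.stalk x) R]
    (s : Γ(X, ⊤)) :
    (Hens2.specOf X x R).appTop s = (Scheme.ΓSpecIso (CommRingCat.of R)).inv
      (algebraMap (X.presheaf.stalk x) R ((X.presheaf.germ ⊤ x trivial).hom s)) := by
  have h1 : (X.fromSpecStalk x).appTop s =
      (Scheme.ΓSpecIso (X.presheaf.stalk x)).inv ((X.presheaf.germ ⊤ x trivial).hom s) := by
    rw [Scheme.fromSpecStalk_appTop, CommRingCat.comp_apply, CommRingCat.comp_apply]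
    exact ConcreteCategory.congr_hom ((Spec (X.presheaf.stalk x)).presheaf.map_id _) _
  rw [Scheme.Hom.comp_appTop, CommRingCat.comp_apply]
  refine (congrArg (Spec.map (CommRingCat.ofHom (algebraMap (X.presheaf.stalk x) R))).appTop.hom h1).trans ?_
  exact (ConcreteCategory.congr_hom (Scheme.ΓSpecIso_inv_naturality
    (CommRingCat.ofHom (algebraMap (X.presheaf.stalk x) R))) _).symm

/-- The complement of the divisor in a local scheme. -/
theorem coe_compl {X : Scheme.{u}} {r : ℕ} (φ : Fin r → Γ(X, ⊤)) (x : X) (R : Type u) [CommRing R]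
    [Algebra (X.presheaf.stalk x) R] [Fintype (SGA1t.vanishingAt φ x)] :
    (SGA1t.compl (fun i => (Hens2.specOf X x R).appTop (φ i)) : Set (Spec (CommRingCat.of R))) =
      (PrimeSpectrum.basicOpen (∏ i : SGA1t.vanishingAt φ x,
        algebraMap (X.presheaf.stalk x) R ((X.presheaf.germ ⊤ x trivial).hom (φ i.1))) : Set (PrimeSpectrum R)) := by
  classical
  let b : Fin r → R := fun i => algebraMap (X.presheaf.stalk x) R ((X.presheaf.germ ⊤ x trivial).hom (φ i))
  have hprod : (∏ i, (Hens2.specOf X x R).appTop (φ i)) = (Scheme.ΓSpecIso (CommRingCat.of R)).inv (∏ i, b i) := by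
    rw [map_prod]
    exact Finset.prod_congr rfl fun i _ => specOf_appTop X x R (φ i)
  show (((Spec (CommRingCat.of R)).basicOpen (∏ i, (Hens2.specOf X x R).appTop (φ i)) :
    (Spec (CommRingCat.of R)).Opens) : Set (Spec (CommRingCat.of R))) = _
  rw [hprod, basicOpen_eq_of_affine]
  have hu : ∀ i, x ∈ X.basicOpen (φ i) → IsUnit (b i) := fun i hi =>
    ((X.mem_basicOpen (U := ⊤) (φ i) x trivial).1 hi).map (algebraMap (X.presheaf.stalk x) R)
  ext P
  show (∏ i, b i) ∉ P.asIdeal ↔ (∏ i : SGA1t.vanishingAt φ x, b i.1) ∉ P.asIdeal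
  rw [not_iff_not, P.2.prod_mem_iff, P.2.prod_mem_iff]
  constructor
  · rintro ⟨i, -, hi⟩
    have hv : x ∉ X.basicOpen (φ i) := fun h => P.2.ne_top (Ideal.eq_top_of_isUnit_mem _ hi (hu i h))
    exact ⟨⟨i, hv⟩, Finset.mem_univ _, hi⟩
  · rintro ⟨i, -, hi⟩
    exact ⟨i.1, Finset.mem_univ _, hi⟩

theorem germ_mem_maximalIdeal {X : Scheme.{u}} {r : ℕ} (φ : Fin r → Γ(X, ⊤)) (x : X) (i : SGA1t.vanishingAt φ x) :
    (X.presheaf.germ ⊤ x trivial).hom (φ i.1) ∈ maximalIdeal (X.presheaf.stalk x) :=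
  (mem_maximalIdeal _).2 fun h => i.2 ((X.mem_basicOpen (U := ⊤) (φ i.1) x trivial).2 h)

theorem isUnit_natCast_stalk {X : Scheme.{u}} (x : X) {m : ℕ} (h : IsUnit ((m : ℕ) : X.residueField x)) :
    IsUnit ((m : ℕ) : X.presheaf.stalk x) := by
  refine IsUnit.of_map (residue (X.presheaf.stalk x)) _ ?_
  rw [map_natCast]
  exact h

theorem galois_strictLocal {X S : Scheme.{u}} (f : X ⟶ S) {r : ℕ} (φ : Fin r → Γ(X, ⊤))
    (hD : SGA1t.IsRelSNC f φ) (x : X) (hx : Nonempty (SGA1t.vanishingAt φ x))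
    (R : Type u) [CommRing R] [IsLocalRing R] [Algebra (X.presheaf.stalk x) R]
    [IsLocalHom (algebraMap (X.presheaf.stalk x) R)] [Hensel.IsStrictHenselization (X.presheaf.stalk x) R]
    (n : SGA1t.vanishingAt φ x → ℕ) (hn1 : ∀ i, 1 ≤ n i) (hnu : ∀ i, IsUnit ((n i : ℕ) : X.residueField x)) :
    letI a : SGA1t.vanishingAt φ x → R := fun i =>
      algebraMap (X.presheaf.stalk x) R ((X.presheaf.germ ⊤ x trivial).hom (φ i.1))
    letI π : Spec (CommRingCat.of (SGA1t.kummer R a n)) ⟶ Spec (CommRingCat.of R) :=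
      Spec.map (CommRingCat.ofHom (algebraMap R (SGA1t.kummer R a n)))
    letI U₁ := SGA1t.compl (fun i => (Hens2.specOf X x R).appTop (φ i))
    ∀ hP : FEt.prop (π ∣_ U₁),
      PiSp.IsGaloisCover (MorphismProperty.Over.mk ⊤ (π ∣_ U₁) hP) ∧
      ∃ θ : ((i : SGA1t.vanishingAt φ x) → ↥(rootsOfUnity (n i) R)) ≃*
          Aut (MorphismProperty.Over.mk ⊤ (π ∣_ U₁) hP : FEt.Cat (U₁ : Scheme.{u})),
        ∀ ζ, (θ ζ).hom.left ≫ (π ⁻¹ᵁ U₁).ι =
          (π ⁻¹ᵁ U₁).ι ≫ Spec.map (CommRingCat.ofHom (SGA1t.kummerTwist R a n ζ)) := by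
  classical
  intro hP
  let a : SGA1t.vanishingAt φ x → R := fun i =>
    algebraMap (X.presheaf.stalk x) R ((X.presheaf.germ ⊤ x trivial).hom (φ i.1))
  let U₁ := SGA1t.compl (fun i => (Hens2.specOf X x R).appTop (φ i))
  haveI : Finite (SGA1t.vanishingAt φ x) := Subtype.finite
  haveI := Fintype.ofFinite (SGA1t.vanishingAt φ x)
  obtain ⟨C, d, e, ψ, he, hgood, hψ⟩ := exists_chart f φ hD x hx
  letI : Algebra (MvPolynomial (ULift.{u} (Fin d)) C) (X.presheaf.stalk x) := ψ.toAlgebra
  letI : Algebra (MvPolynomial (ULift.{u} (Fin d)) C) R := ((algebraMap (X.presheaf.stalk x) R).comp ψ).toAlgebra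
  haveI : IsScalarTower (MvPolynomial (ULift.{u} (Fin d)) C) (X.presheaf.stalk x) R :=
    IsScalarTower.of_algebraMap_eq fun _ => rfl
  have hGR := isGood_of_strictHenselization (A := X.presheaf.stalk x) (R := R) hgood
  haveI : IsSepClosed (ResidueField R) :=
    (Hensel.IsStrictHenselization.isSepClosure (R := X.presheaf.stalk x) (S := R)).sep_closed
  have hu : ∀ i, IsUnit ((n i : ℕ) : R) := fun i => by
    have h := (isUnit_natCast_stalk x (hnu i)).map (algebraMap (X.presheaf.stalk x) R)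
    rwa [map_natCast] at h
  refine galois (Hensel.IsStrictHenselization.henselian (R := X.presheaf.stalk x)) a n hn1 hu U₁
    (coe_compl φ x R) (fun D _ _ _ => ?_) hP
  exact idempotent_trivial e he a (fun i => congrArg (algebraMap (X.presheaf.stalk x) R) (hψ i))
    (fun i => (mem_maximalIdeal _).2 fun h => (mem_maximalIdeal _).1 (germ_mem_maximalIdeal φ x i)
      (isUnit_of_map_unit (algebraMap (X.presheaf.stalk x) R) _ h)) n hn1 hu hGR D

end Groth.Agent.RelKummer
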